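import Groth.Agent.PBunTwist.Inverse

/-!
The local morphisms back to `P(E)` are inverse to the morphism to `P(E ⊗ L)`.
-/

set_option autoImplicit false
set_option backward.isDefEq.respectTransparency false
set_option linter.style.haveILetI false
set_option linter.unusedSectionVars false
set_option maxHeartbeats 1000000

universe u

open CategoryTheory CategoryTheory.Limits AlgebraicGeometry TopologicalSpace Opposite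
open scoped HomogeneousIdeal
open Groth.Agent.QC (res resO res_res res_self res_smul app_res)

noncomputable section

namespace Groth.Agent.PBunTwist

open Groth.Agent
open TMul (IsGen tm)
open Groth.Agent.SymAlg (IsFund bundleκ jE DjE)

variable {Y P Q X X' : Scheme.{u}} (D : Pair Y P Q) {r : P ⟶ Q}
  {θ : D.OQ ⟶ (Scheme.Modules.pushforward r).obj D.M} (hr : D.IsTw r θ)
  {U : Y.Opens} {l : Γ(D.L, U)} (hl : IsGen l) {i : X ⟶ Q} (hi : ⊤ ≤ (i ≫ D.q) ⁻¹ᵁ U)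
  {r' : X ⟶ P}
  {θ' : D.OP ⟶ (Scheme.Modules.pushforward r').obj ((Scheme.Modules.pullback i).obj D.OQ)}
  (hr' : D.IsBack l i r' θ')

include hr hl hi hr' in
/-- Back and forth over `U`, starting from `Q`. -/
theorem Pair.back_comp : r' ≫ r = i := by
  haveI : D.E.IsQuasicoherent := D.hE
  let K := (Scheme.Modules.pullback i).obj D.OQ
  let C := (Scheme.Modules.pullback r').obj ((Scheme.Modules.pullback D.p).obj D.L)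
  let L' := CohB1.tensorMod K C
  have hp : r' ≫ D.p = i ≫ D.q := hr'.1
  have htop : (⊤ : X.Opens) ≤ r' ⁻¹ᵁ (D.p ⁻¹ᵁ U) := by
    change ⊤ ≤ (r' ≫ D.p) ⁻¹ᵁ U
    rw [hp]; exact hi
  let sX : Γ(C, ⊤) := res C htop
    (OmegaSh.pullSect r' _ (D.p ⁻¹ᵁ U) (OmegaSh.pullSect D.p D.L U l))
  have hsX : IsGen sX := TMul.IsGen.res
    (isGen_ps r' (PicLoc.isInvertible_pullback D.p D.hL) (isGen_ps D.p D.hL hl)) htop
  let ρ : K ⟶ L' := twistBy (𝟙 X) sX (fun W => le_inf le_rfl le_top)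
      ((Scheme.Modules.pushforwardId X).inv.app (CohB1.tensorMod K C)) ≫
    (Scheme.Modules.pushforwardId X).hom.app L'
  have hρ : ∀ (V : X.Opens) (a : Γ(K, V)), ρ.app V a = tm a (res C le_top sX) := fun V a =>
    twistBy_app (𝟙 X) sX (fun W => le_inf le_rfl le_top)
      ((Scheme.Modules.pushforwardId X).inv.app (CohB1.tensorMod K C)) V le_top a
  let θ₀ : D.OQ ⟶ (Scheme.Modules.pushforward i).obj L' :=
    (Scheme.Modules.pullbackPushforwardAdjunction i).unit.app D.OQ ≫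
      (Scheme.Modules.pushforward i).map ρ
  have hθ₀ : ∀ (V : Q.Opens) (t : Γ(D.OQ, V)), asSec L' (i ⁻¹ᵁ V) (θ₀.app V t) =
      tm (OmegaSh.pullSect i D.OQ V t) (res C le_top sX) := fun V t => hρ (i ⁻¹ᵁ V) _
  have hθ₀gen : ∀ (V : Q.Opens) (t : Γ(D.OQ, V)), IsGen t →
      IsGen (X := X) (N := L') (U := i ⁻¹ᵁ V) (θ₀.app V t) := fun V t ht =>
    (congrArg (IsGen (X := X) (N := L') (U := i ⁻¹ᵁ V)) (hθ₀ V t)).mpr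
      (TMul.isGen_tm (isGen_ps i D.hOQi ht) (TMul.IsGen.res hsX le_top))
  let ξ : D.M ⟶ (Scheme.Modules.pushforward r').obj L' := kappa r' θ'
  let θ'' : D.OQ ⟶ (Scheme.Modules.pushforward (r' ≫ r)).obj L' :=
    θ ≫ (Scheme.Modules.pushforward r).map ξ ≫
      (Scheme.Modules.pushforwardComp r' r).hom.app L'
  have hq : (r' ≫ r) ≫ D.q = i ≫ D.q := by rw [Category.assoc, hr.1, hp]
  have htop' : (⊤ : X.Opens) ≤ ((r' ≫ r) ≫ D.q) ⁻¹ᵁ U := by rw [hq]; exact hi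
  have hval : ∀ (W : Y.Opens) (_ : W ≤ U) (n : Γ(CohB1.tensorMod D.E D.L, W)) (V : X.Opens)
      (h : V ≤ ((r' ≫ r) ≫ D.q) ⁻¹ᵁ W) (h' : V ≤ (i ≫ D.q) ⁻¹ᵁ W),
      res L' h (asSec L' (((r' ≫ r) ≫ D.q) ⁻¹ᵁ W) <| (bundleκ D.ψ (r' ≫ r) θ'').app W n) =
        res L' h' (asSec L' ((i ≫ D.q) ⁻¹ᵁ W) <| (bundleκ D.ψ i θ₀).app W n) := by
    intro W hW n V h h'
    obtain ⟨m, rfl⟩ := (TMul.tm_bijective (M := D.E) hl W hW).2 n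
    have hVp : V ≤ r' ⁻¹ᵁ (D.p ⁻¹ᵁ W) := by
      change V ≤ (r' ≫ D.p) ⁻¹ᵁ W
      rw [hp]; exact h'
    have hB : r ⁻¹ᵁ (D.q ⁻¹ᵁ W) ≤ D.p ⁻¹ᵁ W := by
      change (r ≫ D.q) ⁻¹ᵁ W ≤ _
      rw [hr.1]
    have hA : D.p ⁻¹ᵁ W ≤ r ⁻¹ᵁ (D.q ⁻¹ᵁ W) := by
      change _ ≤ (r ≫ D.q) ⁻¹ᵁ W
      rw [hr.1]
    change res L' h (ξ.app (r ⁻¹ᵁ (D.q ⁻¹ᵁ W)) (θ.app (D.q ⁻¹ᵁ W) (D.ψ.app W (tm m (res D.L hW l))))) =
      res L' h' (asSec L' (i ⁻¹ᵁ (D.q ⁻¹ᵁ W)) (θ₀.app (D.q ⁻¹ᵁ W) (D.ψ.app W (tm m (res D.L hW l)))))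
    refine (shrink r' ξ hA _ V h hVp).trans ?_
    have h1 := hr.2 W (tm m (res D.L hW l)) (D.p ⁻¹ᵁ W) hA le_rfl
    rw [res_self, kappa_tm] at h1
    refine (congrArg (fun z => res L' hVp (asSec L' (r' ⁻¹ᵁ (D.p ⁻¹ᵁ W)) (ξ.app (D.p ⁻¹ᵁ W) z))) h1).trans ?_
    refine (congrArg (res L' hVp) (kappa_tm r' θ' (D.p ⁻¹ᵁ W) _ _)).trans ?_
    rw [hθ₀]
    unfold kFun
    refine (TMul.res_tm _ _ _).trans (Eq.trans ?_ (TMul.res_tm _ _ _).symm)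
    congr 1
    · exact hr'.2 W hW m V hVp h'
    · simp only [sX, res_res]
      rw [← res_ps D.p D.L hW l, ← res_ps r' _ (D.p.preimage_mono hW), res_res]
      exact (res_res C h' _ _).symm
  refine (SymAlg.UnivProp.eq_of_compat D.hN D.hk D.hQ D.hOQ D.hψ i θ₀ hθ₀gen (r' ≫ r) hq θ'' ?_
    fun U' hU' n V h h' => ?_)
  · refine gen_of_locally (r' ≫ r) θ'' fun x => ?_
    obtain ⟨U', hU', hxU', hle⟩ := exists_isAffineOpen_mem_and_subset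
      (x := (i ≫ D.q).base x) (U := U) (hi (Set.mem_univ x))
    have hle' : U' ≤ U := hle
    obtain ⟨n, V, -, hxV, hVD, hVU⟩ :=
      SymAlg.exists_chart D.hN D.hk (i := i) (ch := D.chQ) U' hU' x hxU'
    have hV : V ≤ ((r' ≫ r) ≫ D.q) ⁻¹ᵁ U' := by rw [hq]; exact hVU
    refine ⟨D.q ⁻¹ᵁ U', D.ψ.app U' n, V, hV, hxV, ?_⟩
    refine (congrArg (IsGen (X := X) (N := L') (U := V)) (hval U' hle' n V hV hVU)).mpr ?_
    have hD := SymAlg.isGen_fund D.hk D.hOQ D.hψ U' hU' n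
      (SymAlg.DjE_le (ch := D.chQ) (j := D.k) U' hU' n)
      ((RelProj.emb D.q D.chQ U' hU').preimage_image_eq _).le
    have h2 := TMul.IsGen.res (hθ₀gen _ _ hD) hVD
    rw [← app_res θ₀ (SymAlg.DjE_le (ch := D.chQ) (j := D.k) U' hU' n)] at h2
    exact (congrArg (IsGen (X := X) (N := L') (U := V))
      (res_res L' hVD (i.preimage_mono (SymAlg.DjE_le (ch := D.chQ) (j := D.k) U' hU' n)) _)).mp h2
  · exact values_eq (U := U) _ _ _ _ htop' hi hval U' n V h' h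

variable {j₀ : X' ⟶ P} (hj₀ : ⊤ ≤ (j₀ ≫ D.p) ⁻¹ᵁ U) {k₀ : X' ⟶ X} (hk₀ : k₀ ≫ i = j₀ ≫ r)

include hr hl hi hr' hj₀ hk₀ in
/-- Forth and back over `U`, starting from `P`. -/
theorem Pair.comp_back : k₀ ≫ r' = j₀ := by
  haveI : D.E.IsQuasicoherent := D.hE
  let L' := (Scheme.Modules.pullback j₀).obj D.M
  let C := (Scheme.Modules.pullback D.p).obj D.L
  let s : Γ(C, D.p ⁻¹ᵁ U) := OmegaSh.pullSect D.p D.L U l
  have hU' : ∀ W : P.Opens, j₀ ⁻¹ᵁ W ≤ j₀ ⁻¹ᵁ (W ⊓ D.p ⁻¹ᵁ U) := fun W x hx =>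
    ⟨hx, hj₀ (Set.mem_univ x)⟩
  let θ₀ : D.OP ⟶ (Scheme.Modules.pushforward j₀).obj L' :=
    twistBy j₀ s hU' ((Scheme.Modules.pullbackPushforwardAdjunction j₀).unit.app D.M)
  have hθ₀ : ∀ (V : P.Opens) (hV : V ≤ D.p ⁻¹ᵁ U) (t : Γ(D.OP, V)), asSec L' (j₀ ⁻¹ᵁ V) (θ₀.app V t) =
      OmegaSh.pullSect j₀ D.M V (tm t (res C hV s)) := fun V hV t =>
    twistBy_app j₀ s hU' _ V hV t
  have hMi : PicF.IsInvertible D.M :=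
    TMul.isInvertible_tensorMod D.hOPi (PicLoc.isInvertible_pullback D.p D.hL)
  have hgen_at : ∀ x : X', ∃ (U' : Y.Opens) (_ : U' ≤ U) (e : Γ(D.E, U')) (V : X'.Opens)
      (hV : V ≤ j₀ ⁻¹ᵁ (D.p ⁻¹ᵁ U')), x ∈ V ∧
        IsGen (res L' hV (asSec L' (j₀ ⁻¹ᵁ (D.p ⁻¹ᵁ U')) (θ₀.app _ (D.φ.app U' e)))) := by
    intro x
    obtain ⟨U', hU'a, hxU', hle⟩ := exists_isAffineOpen_mem_and_subset
      (x := (j₀ ≫ D.p).base x) (U := U) (hj₀ (Set.mem_univ x))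
    have hle' : U' ≤ U := hle
    obtain ⟨e, V, -, hxV, hVD, hVU⟩ :=
      SymAlg.exists_chart D.hE D.hj (i := j₀) (ch := D.chP) U' hU'a x hxU'
    have hV : V ≤ j₀ ⁻¹ᵁ (D.p ⁻¹ᵁ U') := hVU
    refine ⟨U', hle', e, V, hV, hxV, ?_⟩
    have hD := SymAlg.isGen_fund D.hj D.hOP D.hφ U' hU'a e
      (SymAlg.DjE_le (ch := D.chP) (j := D.j) U' hU'a e)
      ((RelProj.emb D.p D.chP U' hU'a).preimage_image_eq _).le
    have hle'' : DjE D.p D.chP D.j U' hU'a e ≤ D.p ⁻¹ᵁ U :=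
      (SymAlg.DjE_le (ch := D.chP) (j := D.j) U' hU'a e).trans (D.p.preimage_mono hle')
    have h2 := TMul.IsGen.res (isGen_ps j₀ hMi (TMul.isGen_tm hD
      (TMul.IsGen.res (isGen_ps D.p D.hL hl) hle''))) hVD
    rw [← hθ₀ _ hle'', ← app_res θ₀ (SymAlg.DjE_le (ch := D.chP) (j := D.j) U' hU'a e)] at h2
    exact (congrArg (IsGen (X := X') (N := L') (U := V))
      (res_res L' hVD (j₀.preimage_mono (SymAlg.DjE_le (ch := D.chP) (j := D.j) U' hU'a e)) _)).mp h2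
  have hθ₀gen := gen_of_locally j₀ θ₀ fun x => by
    obtain ⟨U', -, e, V, hV, hxV, hg⟩ := hgen_at x
    exact ⟨_, _, V, hV, hxV, hg⟩
  let η : (Scheme.Modules.pullback i).obj D.OQ ⟶ (Scheme.Modules.pushforward k₀).obj L' :=
    ((Scheme.Modules.pullbackPushforwardAdjunction i).homEquiv D.OQ _).symm
      (θ ≫ (Scheme.Modules.pushforward r).map
          ((Scheme.Modules.pullbackPushforwardAdjunction j₀).unit.app D.M) ≫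
        (Scheme.Modules.pushforwardComp j₀ r).hom.app L' ≫
        (Scheme.Modules.pushforwardCongr hk₀.symm).hom.app L' ≫
        (Scheme.Modules.pushforwardComp k₀ i).inv.app L')
  have hηle : ∀ V : Q.Opens, k₀ ⁻¹ᵁ (i ⁻¹ᵁ V) ≤ j₀ ⁻¹ᵁ (r ⁻¹ᵁ V) := fun V => by
    change (k₀ ≫ i) ⁻¹ᵁ V ≤ (j₀ ≫ r) ⁻¹ᵁ V
    rw [hk₀]
  have hη : ∀ (V : Q.Opens) (t : Γ(D.OQ, V)),
      asSec L' (k₀ ⁻¹ᵁ (i ⁻¹ᵁ V)) (η.app (i ⁻¹ᵁ V) (OmegaSh.pullSect i D.OQ V t)) =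
        res L' (hηle V) (OmegaSh.pullSect j₀ D.M (r ⁻¹ᵁ V) (θ.app V t)) := fun V t => by
    refine (symm_app_ps i _ V t).trans ?_
    rfl
  let θ'' : D.OP ⟶ (Scheme.Modules.pushforward (k₀ ≫ r')).obj L' :=
    θ' ≫ (Scheme.Modules.pushforward r').map η ≫
      (Scheme.Modules.pushforwardComp k₀ r').hom.app L'
  have hp : r' ≫ D.p = i ≫ D.q := hr'.1
  have hq : (k₀ ≫ r') ≫ D.p = j₀ ≫ D.p := by
    rw [Category.assoc, hp, ← Category.assoc, hk₀, Category.assoc, hr.1]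
  have htop' : (⊤ : X'.Opens) ≤ ((k₀ ≫ r') ≫ D.p) ⁻¹ᵁ U := by rw [hq]; exact hj₀
  have hval : ∀ (W : Y.Opens) (_ : W ≤ U) (m : Γ(D.E, W)) (V : X'.Opens)
      (h : V ≤ ((k₀ ≫ r') ≫ D.p) ⁻¹ᵁ W) (h' : V ≤ (j₀ ≫ D.p) ⁻¹ᵁ W),
      res L' h (asSec L' (((k₀ ≫ r') ≫ D.p) ⁻¹ᵁ W) <| (bundleκ D.φ (k₀ ≫ r') θ'').app W m) =
        res L' h' (asSec L' ((j₀ ≫ D.p) ⁻¹ᵁ W) <| (bundleκ D.φ j₀ θ₀).app W m) := by
    intro W hW m V h h'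
    have hA : i ⁻¹ᵁ (D.q ⁻¹ᵁ W) ≤ r' ⁻¹ᵁ (D.p ⁻¹ᵁ W) := by
      change (i ≫ D.q) ⁻¹ᵁ W ≤ (r' ≫ D.p) ⁻¹ᵁ W
      rw [hp]
    have hV₁ : V ≤ k₀ ⁻¹ᵁ (i ⁻¹ᵁ (D.q ⁻¹ᵁ W)) := by
      change V ≤ k₀ ⁻¹ᵁ ((i ≫ D.q) ⁻¹ᵁ W)
      rw [← hp]; exact h
    change res L' h (η.app (r' ⁻¹ᵁ (D.p ⁻¹ᵁ W)) (θ'.app (D.p ⁻¹ᵁ W) (D.φ.app W m))) =
      res L' h' (asSec L' (j₀ ⁻¹ᵁ (D.p ⁻¹ᵁ W)) (θ₀.app (D.p ⁻¹ᵁ W) (D.φ.app W m)))
    refine (shrink k₀ η hA _ V h hV₁).trans ?_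
    have h1 := hr'.2 W hW m (i ⁻¹ᵁ (D.q ⁻¹ᵁ W)) hA le_rfl
    rw [res_self] at h1
    refine (congrArg (fun z => res L' hV₁ (asSec L' (k₀ ⁻¹ᵁ (i ⁻¹ᵁ (D.q ⁻¹ᵁ W)))
      (η.app (i ⁻¹ᵁ (D.q ⁻¹ᵁ W)) z))) h1).trans ?_
    simp only [hη, hθ₀ (D.p ⁻¹ᵁ W) (D.p.preimage_mono hW), res_res]
    have hB : D.p ⁻¹ᵁ W ≤ r ⁻¹ᵁ (D.q ⁻¹ᵁ W) := by
      change _ ≤ (r ≫ D.q) ⁻¹ᵁ W
      rw [hr.1]
    have h2 := hr.2 W (tm m (res D.L hW l)) (D.p ⁻¹ᵁ W) hB le_rfl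
    rw [res_self, kappa_tm] at h2
    have hV₂ : V ≤ j₀ ⁻¹ᵁ (D.p ⁻¹ᵁ W) := h'
    rw [← res_res L' hV₂ (j₀.preimage_mono hB), res_ps]
    refine congrArg (fun z => res L' hV₂ (OmegaSh.pullSect j₀ D.M (D.p ⁻¹ᵁ W) z)) (h2.trans ?_)
    simp only [kFun, s]
    rw [res_ps]
    exact hB
  refine (SymAlg.UnivProp.eq_of_compat D.hE D.hj D.hP D.hOP D.hφ j₀ θ₀ hθ₀gen (k₀ ≫ r') hq θ'' ?_
    fun U' hU' n V h h' => ?_)
  · refine gen_of_locally (k₀ ≫ r') θ'' fun x => ?_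
    obtain ⟨U', hle', e, V, hV', hxV, hg⟩ := hgen_at x
    have hV : V ≤ ((k₀ ≫ r') ≫ D.p) ⁻¹ᵁ U' := by rw [hq]; exact hV'
    refine ⟨D.p ⁻¹ᵁ U', D.φ.app U' e, V, hV, hxV, ?_⟩
    exact (congrArg (IsGen (X := X') (N := L') (U := V)) (hval U' hle' e V hV hV')).mpr hg
  · exact values_eq (U := U) _ _ _ _ htop' hj₀ hval U' n V h' h

end Groth.Agent.PBunTwist
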