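import Groth.Agent.PBunTwist.Kappa

/-!
Over an open where `L` has a generator the morphism `P(E) ⟶ P(E ⊗ L)` has an inverse.
-/

set_option autoImplicit false
set_option backward.isDefEq.respectTransparency false
set_option linter.style.haveILetI false
set_option linter.unusedSectionVars false

universe u

open CategoryTheory CategoryTheory.Limits AlgebraicGeometry TopologicalSpace Opposite
open scoped HomogeneousIdeal
open Groth.Agent.QC (res resO res_res res_self res_smul app_res)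

noncomputable section

namespace Groth.Agent.PBunTwist

open Groth.Agent
open TMul (IsGen tm)
open Groth.Agent.SymAlg (IsFund bundleκ jE DjE)

/-- A section, with its module and open. -/
abbrev asSec {X : Scheme.{u}} (L : X.Modules) (V : X.Opens) (x : Γ(L, V)) : Γ(L, V) := x

/-- Shrinking the open of a section before applying a morphism. -/
lemma shrink {X Y : Scheme.{u}} (g : X ⟶ Y) {A : Y.Modules} {L : X.Modules}
    (a : A ⟶ (Scheme.Modules.pushforward g).obj L) {W U : Y.Opens} (hWU : W ≤ U) (m : Γ(A, U))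
    (V : X.Opens) (h : V ≤ g ⁻¹ᵁ U) (h' : V ≤ g ⁻¹ᵁ W) :
    res L h (asSec (L) (g ⁻¹ᵁ U) <| a.app U m) =
      res L h' (asSec (L) (g ⁻¹ᵁ W) <| a.app W (res A hWU m)) := by
  rw [← app_res a hWU m]
  exact (res_res L h' (g.preimage_mono hWU) _).symm

section Classify

variable {X Y P : Scheme.{u}} {E : Y.Modules} (hE : Coh.IsQCoh E) {𝒮 : RelProj.QCGrAlg Y}
  {j : E ⟶ 𝒮.toModule} (hj : RelProj.IsGrSymAlg E 𝒮 j) {p : P ⟶ Y}
  {ch : ∀ (U : Y.Opens) (hU : IsAffineOpen U), ((p ⁻¹ᵁ U : P.Opens) : Scheme.{u}) ≅ Proj (𝒮.deg U hU)}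
  (hP : RelProj.IsRelProj 𝒮 p ch) {O1 : P.Modules}
  {lam : ∀ (U : Y.Opens) (hU : IsAffineOpen U), O1 ⟶ (RelTilde.Datum.self 𝒮).E p ch 1 U hU}
  (hO1 : (RelTilde.Datum.self 𝒮).IsTilde p ch 1 O1 lam)
  {φ : E ⟶ (Scheme.Modules.pushforward p).obj O1} (hφ : IsFund j lam φ)

include hE hj hP hO1 hφ in
/-- The classifying morphism of locally generating values, with its comparison map. -/
theorem exists_classify (g : X ⟶ Y) {L : X.Modules} (hL : PicF.IsInvertible L)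
    (κ : E ⟶ (Scheme.Modules.pushforward g).obj L)
    (hgen : ∀ x : X, ∃ (U : Y.Opens) (m : Γ(E, U)) (V : X.Opens) (le : V ≤ g ⁻¹ᵁ U),
      x ∈ V ∧ IsGen (N := L) (res L le (κ.app U m))) :
    ∃ (r : X ⟶ P) (θ : O1 ⟶ (Scheme.Modules.pushforward r).obj L), r ≫ p = g ∧
      IsIso (((Scheme.Modules.pullbackPushforwardAdjunction r).homEquiv O1 L).symm θ) ∧
      (∀ (V : P.Opens) (s : Γ(O1, V)), IsGen s →
        IsGen (X := X) (N := L) (U := r ⁻¹ᵁ V) (θ.app V s)) ∧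
      ∀ (W : Y.Opens) (m : Γ(E, W)) (V : X.Opens) (h' : V ≤ r ⁻¹ᵁ (p ⁻¹ᵁ W)) (h : V ≤ g ⁻¹ᵁ W),
        res L h' (asSec (L) (r ⁻¹ᵁ (p ⁻¹ᵁ W)) <| θ.app (p ⁻¹ᵁ W) (φ.app W m)) =
          res L h (asSec (L) (g ⁻¹ᵁ W) <| κ.app W m) := by
  have hLq : Coh.IsQCoh L := TMul.isQCoh_of_isInvertible hL
  obtain ⟨𝒮L, jl, hjl⟩ := SymAlg.exists_isGrSymAlg hLq
  haveI := epi_adjoint g κ hgen
  obtain ⟨r, hr, θ, hθi, hθκ⟩ :=
    SymAlg.UnivProp.exists_classifying (κ := κ) hE hL hLq hj hjl hP hO1 hφ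
  subst hr
  have hall : ∀ (W : Y.Opens) (m : Γ(E, W)) (V : X.Opens) (h : V ≤ r ⁻¹ᵁ (p ⁻¹ᵁ W)),
      res L h (asSec (L) (r ⁻¹ᵁ (p ⁻¹ᵁ W)) <| θ.app (p ⁻¹ᵁ W) (φ.app W m)) =
        res L h (asSec (L) ((r ≫ p) ⁻¹ᵁ W) <| κ.app W m) := fun W m V h => by
    refine QC.section_eq_of_locally fun x hx => ?_
    obtain ⟨U, hU, hxU, hUW⟩ := exists_isAffineOpen_mem_and_subset (x := p.base (r.base x)) (U := W) (h hx)
    have hUW' : U ≤ W := hUW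
    refine ⟨V ⊓ (r ≫ p) ⁻¹ᵁ U, inf_le_left, ⟨hx, hxU⟩, ?_⟩
    rw [res_res, res_res]
    refine (shrink (r ≫ p) (bundleκ φ r θ) hUW' m _ (inf_le_left.trans h) inf_le_right).trans ?_
    exact (hθκ U hU (res E hUW' m) _ inf_le_right inf_le_right).trans
      (shrink (r ≫ p) κ hUW' m _ (inf_le_left.trans h) inf_le_right).symm
  refine ⟨r, θ, rfl, hθi, gen_of_locally r θ fun x => ?_, fun W m V h' h => hall W m V h'⟩
  obtain ⟨U, m, V, le, hxV, hg⟩ := hgen x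
  refine ⟨p ⁻¹ᵁ U, φ.app U m, V, le, hxV, ?_⟩
  exact (congrArg (IsGen (X := X) (N := L) (U := V)) (hall U m V le)).mpr hg

end Classify

/-- The data of the two bundles. -/
structure Pair (Y P Q : Scheme.{u}) where
  E : Y.Modules
  L : Y.Modules
  hE : Coh.IsQCoh E
  hL : PicF.IsInvertible L
  𝒮 : RelProj.QCGrAlg Y
  j : E ⟶ 𝒮.toModule
  hj : RelProj.IsGrSymAlg E 𝒮 j
  p : P ⟶ Y
  chP : ∀ (U : Y.Opens) (hU : IsAffineOpen U), ((p ⁻¹ᵁ U : P.Opens) : Scheme.{u}) ≅ Proj (𝒮.deg U hU)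
  hP : RelProj.IsRelProj 𝒮 p chP
  OP : P.Modules
  lamP : ∀ (U : Y.Opens) (hU : IsAffineOpen U), OP ⟶ (RelTilde.Datum.self 𝒮).E p chP 1 U hU
  hOP : (RelTilde.Datum.self 𝒮).IsTilde p chP 1 OP lamP
  φ : E ⟶ (Scheme.Modules.pushforward p).obj OP
  hφ : IsFund j lamP φ
  hOPi : PicF.IsInvertible OP
  hN : Coh.IsQCoh (CohB1.tensorMod E L)
  𝒯 : RelProj.QCGrAlg Y
  k : CohB1.tensorMod E L ⟶ 𝒯.toModule
  hk : RelProj.IsGrSymAlg (CohB1.tensorMod E L) 𝒯 k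
  q : Q ⟶ Y
  chQ : ∀ (U : Y.Opens) (hU : IsAffineOpen U), ((q ⁻¹ᵁ U : Q.Opens) : Scheme.{u}) ≅ Proj (𝒯.deg U hU)
  hQ : RelProj.IsRelProj 𝒯 q chQ
  OQ : Q.Modules
  lamQ : ∀ (U : Y.Opens) (hU : IsAffineOpen U), OQ ⟶ (RelTilde.Datum.self 𝒯).E q chQ 1 U hU
  hOQ : (RelTilde.Datum.self 𝒯).IsTilde q chQ 1 OQ lamQ
  ψ : CohB1.tensorMod E L ⟶ (Scheme.Modules.pushforward q).obj OQ
  hψ : IsFund k lamQ ψ
  hOQi : PicF.IsInvertible OQ

variable {Y P Q X X' : Scheme.{u}} (D : Pair Y P Q)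

/-- The twisted fundamental sheaf on `P`. -/
abbrev Pair.M : P.Modules := CohB1.tensorMod D.OP ((Scheme.Modules.pullback D.p).obj D.L)

/-- A morphism `P ⟶ Q` over `Y` carrying `ψ (m ⊗ ℓ)` to `φ m ⊗ ℓ`. -/
def Pair.IsTw (r : P ⟶ Q) (θ : D.OQ ⟶ (Scheme.Modules.pushforward r).obj D.M) : Prop :=
  r ≫ D.q = D.p ∧
    ∀ (W : Y.Opens) (n : Γ(CohB1.tensorMod D.E D.L, W)) (V : P.Opens)
      (h' : V ≤ r ⁻¹ᵁ (D.q ⁻¹ᵁ W)) (h : V ≤ D.p ⁻¹ᵁ W),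
      res D.M h' (asSec (D.M) (r ⁻¹ᵁ (D.q ⁻¹ᵁ W)) <| θ.app (D.q ⁻¹ᵁ W) (D.ψ.app W n)) =
        res D.M h (asSec (D.M) (D.p ⁻¹ᵁ W) <| (kappa D.p D.φ).app W n)

/-- The morphism `P ⟶ Q` exists. -/
theorem Pair.exists_isTw : ∃ (r : P ⟶ Q) (θ : D.OQ ⟶ (Scheme.Modules.pushforward r).obj D.M),
    D.IsTw r θ ∧
      IsIso (((Scheme.Modules.pullbackPushforwardAdjunction r).homEquiv D.OQ D.M).symm θ) := by
  haveI : D.E.IsQuasicoherent := D.hE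
  have hM : PicF.IsInvertible D.M :=
    TMul.isInvertible_tensorMod D.hOPi (PicLoc.isInvertible_pullback D.p D.hL)
  obtain ⟨r, θ, hr, hiso, -, hc⟩ := exists_classify D.hN D.hk D.hQ D.hOQ D.hψ D.p hM (kappa D.p D.φ)
    fun x => by
      obtain ⟨U, hU, l, hxU, -, hl⟩ := SymAlg.exists_triv D.hL (O := ⊤) (x := D.p.base x) trivial
      obtain ⟨e, V, -, hxV, hVD, hVU⟩ :=
        SymAlg.exists_chart D.hE D.hj (i := 𝟙 P) (ch := D.chP) U hU x hxU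
      have hV : V ≤ D.p ⁻¹ᵁ U := hVU
      refine ⟨U, tm e l, V, hV, hxV, ?_⟩
      rw [kappa_tm]
      unfold kFun
      rw [TMul.res_tm]
      refine TMul.isGen_tm ?_
        (TMul.IsGen.res (isGen_ps D.p D.hL hl) hV)
      exact SymAlg.isGen_fund D.hj D.hOP D.hφ U hU e hV (fun z hz =>
        ((RelProj.emb D.p D.chP U hU).preimage_image_eq _).le (hVD hz))
  exact ⟨r, θ, ⟨hr, hc⟩, hiso⟩

section Local

variable {U : Y.Opens} (l : Γ(D.L, U)) (i : X ⟶ Q) (hi : ⊤ ≤ (i ≫ D.q) ⁻¹ᵁ U)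

include hi in
lemma hU_q (W : Y.Opens) : (i ≫ D.q) ⁻¹ᵁ W ≤ (i ≫ D.q) ⁻¹ᵁ (W ⊓ U) :=
  fun x hx => ⟨hx, hi (Set.mem_univ x)⟩

/-- `m ↦ ψ (m ⊗ ℓ)` on `X`. -/
def Pair.locKappa : D.E ⟶
    (Scheme.Modules.pushforward (i ≫ D.q)).obj ((Scheme.Modules.pullback i).obj D.OQ) :=
  twistBy (i ≫ D.q) l (hU_q D i hi)
    (D.ψ ≫ (Scheme.Modules.pushforward D.q).map
        ((Scheme.Modules.pullbackPushforwardAdjunction i).unit.app D.OQ) ≫
      (Scheme.Modules.pushforwardComp i D.q).hom.app _)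

lemma Pair.locKappa_app (W : Y.Opens) (hW : W ≤ U) (m : Γ(D.E, W)) :
    (D.locKappa l i hi).app W m =
      OmegaSh.pullSect i D.OQ (D.q ⁻¹ᵁ W) (D.ψ.app W (tm m (res D.L hW l))) :=
  (twistBy_app (i ≫ D.q) l (hU_q D i hi) _ W hW m).trans rfl

/-- A morphism back to `P`. -/
def Pair.IsBack (r' : X ⟶ P)
    (θ' : D.OP ⟶ (Scheme.Modules.pushforward r').obj ((Scheme.Modules.pullback i).obj D.OQ)) : Prop :=
  r' ≫ D.p = i ≫ D.q ∧
    ∀ (W : Y.Opens) (hW : W ≤ U) (m : Γ(D.E, W)) (V : X.Opens)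
      (h' : V ≤ r' ⁻¹ᵁ (D.p ⁻¹ᵁ W)) (h : V ≤ i ⁻¹ᵁ (D.q ⁻¹ᵁ W)),
      res _ h' (asSec ((Scheme.Modules.pullback i).obj D.OQ) (r' ⁻¹ᵁ (D.p ⁻¹ᵁ W)) <| θ'.app (D.p ⁻¹ᵁ W) (D.φ.app W m)) =
        res _ h (OmegaSh.pullSect i D.OQ (D.q ⁻¹ᵁ W)
          (asSec (D.OQ) (D.q ⁻¹ᵁ W) <| D.ψ.app W (tm m (res D.L hW l))))

include hi in
theorem Pair.exists_isBack (hl : IsGen l) :
    ∃ (r' : X ⟶ P) (θ' : D.OP ⟶ (Scheme.Modules.pushforward r').obj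
      ((Scheme.Modules.pullback i).obj D.OQ)), D.IsBack l i r' θ' := by
  haveI : D.E.IsQuasicoherent := D.hE
  have hK : PicF.IsInvertible ((Scheme.Modules.pullback i).obj D.OQ) :=
    PicLoc.isInvertible_pullback i D.hOQi
  obtain ⟨r', θ', hr', -, -, hc⟩ := exists_classify D.hE D.hj D.hP D.hOP D.hφ (i ≫ D.q) hK
    (D.locKappa l i hi) fun x => by
      obtain ⟨U', hU', hxU', hle⟩ := exists_isAffineOpen_mem_and_subset
        (x := (i ≫ D.q).base x) (U := U) (hi (Set.mem_univ x))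
      have hle' : U' ≤ U := hle
      obtain ⟨n, V, -, hxV, hVD, hVU⟩ :=
        SymAlg.exists_chart D.hN D.hk (i := i) (ch := D.chQ) U' hU' x hxU'
      obtain ⟨m, rfl⟩ := (TMul.tm_bijective (M := D.E) hl U' hle').2 n
      refine ⟨U', m, V, hVU, hxV, ?_⟩
      rw [D.locKappa_app l i hi U' hle' m]
      have hD := SymAlg.isGen_fund D.hk D.hOQ D.hψ U' hU' (tm m (res D.L hle' l))
        (SymAlg.DjE_le (ch := D.chQ) (j := D.k) U' hU' (tm m (res D.L hle' l)))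
        ((RelProj.emb D.q D.chQ U' hU').preimage_image_eq _).le
      have h2 := TMul.IsGen.res (isGen_ps i D.hOQi hD) hVD
      rw [← res_ps i D.OQ (SymAlg.DjE_le (ch := D.chQ) (j := D.k) U' hU' (tm m (res D.L hle' l))),
        res_res] at h2
      exact h2
  exact ⟨r', θ', hr', fun W hW m V h' h => by
    rw [hc W m V h' h, D.locKappa_app l i hi W hW m]; rfl⟩

/-- Agreement with `(· ⊗ ℓ)` on the values over `U` determines the values everywhere. -/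
lemma values_eq {A : Y.Modules} {L' : X'.Modules} (g g' : X' ⟶ Y)
    (a : A ⟶ (Scheme.Modules.pushforward g).obj L') (a' : A ⟶ (Scheme.Modules.pushforward g').obj L')
    (hg : ⊤ ≤ g ⁻¹ᵁ U) (hg' : ⊤ ≤ g' ⁻¹ᵁ U)
    (hval : ∀ (W : Y.Opens) (_ : W ≤ U) (m : Γ(A, W)) (V : X'.Opens) (h : V ≤ g ⁻¹ᵁ W)
      (h' : V ≤ g' ⁻¹ᵁ W), res L' h (asSec L' (g ⁻¹ᵁ W) <| a.app W m) =
        res L' h' (asSec L' (g' ⁻¹ᵁ W) <| a'.app W m))
    (U' : Y.Opens) (m : Γ(A, U')) (V : X'.Opens) (h : V ≤ g ⁻¹ᵁ U') (h' : V ≤ g' ⁻¹ᵁ U') :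
    res L' h (asSec L' (g ⁻¹ᵁ U') <| a.app U' m) =
      res L' h' (asSec L' (g' ⁻¹ᵁ U') <| a'.app U' m) := by
  have h1 : V ≤ g ⁻¹ᵁ (U' ⊓ U) := fun x hx => ⟨h hx, hg (Set.mem_univ x)⟩
  have h2 : V ≤ g' ⁻¹ᵁ (U' ⊓ U) := fun x hx => ⟨h' hx, hg' (Set.mem_univ x)⟩
  exact (shrink g a inf_le_left m V h h1).trans
    ((hval _ inf_le_right _ V h1 h2).trans (shrink g' a' inf_le_left m V h' h2).symm)

end Local

end Groth.Agent.PBunTwist
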