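import Groth.Agent.SymAlg.UnivProp.Main
import Groth.Agent.TMul.Assoc
import Groth.Agent.TMul.RelAmple

/-!
Section-level morphisms used to compare the projective bundles of `E` and `E ⊗ L`.
-/

set_option autoImplicit false
set_option backward.isDefEq.respectTransparency false
set_option linter.style.haveILetI false
set_option linter.unusedSectionVars false

universe u

open CategoryTheory CategoryTheory.Limits AlgebraicGeometry TopologicalSpace Opposite
open Groth.Agent.QC (res resO res_res res_self res_smul app_res)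

noncomputable section

namespace Groth.Agent.PBunTwist

open Groth.Agent
open TMul (IsGen tm)

variable {X Y P Z : Scheme.{u}}

/-- Pulled back sections commute with restriction. -/
lemma res_ps (f : X ⟶ Z) (M : Z.Modules) {V W : Z.Opens} (h : V ≤ W) (m : Γ(M, W)) :
    res ((Scheme.Modules.pullback f).obj M) (f.preimage_mono h) (OmegaSh.pullSect f M W m) =
      OmegaSh.pullSect f M V (res M h m) :=
  app_res ((Scheme.Modules.pullbackPushforwardAdjunction f).unit.app M) h m

lemma ps_smul (f : X ⟶ Z) (M : Z.Modules) (W : Z.Opens) (c : Γ(Z, W)) (m : Γ(M, W)) :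
    OmegaSh.pullSect f M W (c • m) = (f.app W).hom c • OmegaSh.pullSect f M W m :=
  ((Scheme.Modules.pullbackPushforwardAdjunction f).unit.app M).app_smul c m

/-- The pull-back of a generator is a generator. -/
lemma isGen_ps (f : X ⟶ Z) {M : Z.Modules} (hM : PicF.IsInvertible M) {W : Z.Opens} {m : Γ(M, W)}
    (hm : IsGen m) : IsGen (OmegaSh.pullSect f M W m) := by
  have h := SymAlg.isGen_pullθ f (Iso.refl ((Scheme.Modules.pullback f).obj M))
    (PicLoc.isInvertible_pullback f hM) (TMul.isQCoh_of_isInvertible hM) m hm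
  exact h

/-- An adjoint morphism applied to pulled back sections. -/
lemma symm_app_ps (g : X ⟶ Y) {E : Y.Modules} {L : X.Modules}
    (κ : E ⟶ (Scheme.Modules.pushforward g).obj L) (W : Y.Opens) (m : Γ(E, W)) :
    (((Scheme.Modules.pullbackPushforwardAdjunction g).homEquiv E L).symm κ).app (g ⁻¹ᵁ W)
      (OmegaSh.pullSect g E W m) = κ.app W m := by
  let adj := Scheme.Modules.pullbackPushforwardAdjunction g
  have h1 : (adj.unit.app E ≫
      (Scheme.Modules.pushforward g).map ((adj.homEquiv E L).symm κ)) = κ :=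
    (adj.homEquiv_unit E L _).symm.trans (Equiv.apply_symm_apply _ _)
  exact congr(($h1).app W m)

/-- Locally generating values give an epimorphic adjoint. -/
theorem epi_adjoint (g : X ⟶ Y) {E : Y.Modules} {L : X.Modules}
    (κ : E ⟶ (Scheme.Modules.pushforward g).obj L)
    (h : ∀ x : X, ∃ (U : Y.Opens) (m : Γ(E, U)) (V : X.Opens) (le : V ≤ g ⁻¹ᵁ U),
      x ∈ V ∧ IsGen (N := L) (res L le (κ.app U m))) :
    Epi (((Scheme.Modules.pullbackPushforwardAdjunction g).homEquiv E L).symm κ) := by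
  refine InvGen.epi_of_locally _ fun W t x hx => ?_
  obtain ⟨U, m, V, le, hxV, hgen⟩ := h x
  obtain ⟨c, hc⟩ := (hgen (W ⊓ V) inf_le_right).2 (res L inf_le_left t)
  refine ⟨W ⊓ V, inf_le_left, ⟨hx, hxV⟩,
    c • res _ ((inf_le_right : W ⊓ V ≤ V).trans le) (OmegaSh.pullSect g E U m), ?_⟩
  rw [Scheme.Modules.Hom.app_smul, ← app_res, symm_app_ps]
  simp only [res_res] at hc
  exact hc

/-- A multiple of a section generates only if the section does. -/
lemma isGen_of_smul {M : X.Modules} {U : X.Opens} {a : Γ(M, U)} {c : Γ(X, U)} (h : IsGen (c • a)) :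
    IsGen a := by
  obtain ⟨d, hd⟩ := (h U le_rfl).2 a
  simp only [res_self] at hd
  have h1 : c * d = 1 := by
    refine (h U le_rfl).1 ?_
    simp only [res_self, one_smul]
    rw [mul_smul, hd]
  have h2 := TMul.isGen_smul h (IsUnit.of_mul_eq_one c (by rw [mul_comm]; exact h1) : IsUnit d)
  rwa [hd] at h2

/-- A morphism into a push-forward is semilinear. -/
lemma push_app_smul (f : X ⟶ P) {O1 : P.Modules} {L : X.Modules}
    (θ : O1 ⟶ (Scheme.Modules.pushforward f).obj L) (W : P.Opens) (c : Γ(P, W)) (a : Γ(O1, W)) :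
    (show Γ(L, f ⁻¹ᵁ W) from θ.app W (c • a)) =
      (f.app W).hom c • (show Γ(L, f ⁻¹ᵁ W) from θ.app W a) :=
  θ.app_smul c a

/-- A morphism with locally generating values carries generators to generators. -/
theorem gen_of_locally (f : X ⟶ P) {O1 : P.Modules} {L : X.Modules}
    (θ : O1 ⟶ (Scheme.Modules.pushforward f).obj L)
    (h : ∀ x : X, ∃ (O : P.Opens) (t : Γ(O1, O)) (W : X.Opens) (le : W ≤ f ⁻¹ᵁ O),
      x ∈ W ∧ IsGen (N := L) (res L le (θ.app O t)))
    (V : P.Opens) (s : Γ(O1, V)) (hs : IsGen s) :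
    IsGen (X := X) (N := L) (U := f ⁻¹ᵁ V) (θ.app V s) := by
  have hloc : ∀ x : (f ⁻¹ᵁ V : X.Opens), ∃ (W : X.Opens) (h : W ≤ f ⁻¹ᵁ V),
      x.1 ∈ W ∧ IsGen (N := L) (res L h (θ.app V s)) := by
    rintro ⟨x, hx⟩
    obtain ⟨O, t, W, le, hxW, hgen⟩ := h x
    obtain ⟨c, hc⟩ := (hs (V ⊓ O) inf_le_left).2 (res O1 inf_le_right t)
    have le' : W ⊓ f ⁻¹ᵁ V ≤ f ⁻¹ᵁ (V ⊓ O) := fun y hy => ⟨hy.2, le hy.1⟩
    have hx' : x ∈ W ⊓ f ⁻¹ᵁ V := ⟨hxW, hx⟩
    refine ⟨W ⊓ f ⁻¹ᵁ V, inf_le_right, hx', isGen_of_smul (c := resO X le' ((f.app (V ⊓ O)).hom c)) ?_⟩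
    have key : res L ((inf_le_left : W ⊓ f ⁻¹ᵁ V ≤ W).trans le) (θ.app O t) =
        resO X le' ((f.app (V ⊓ O)).hom c) • res L inf_le_right (θ.app V s) := by
      have h1 : res L (f.preimage_mono (inf_le_right : V ⊓ O ≤ O)) (θ.app O t) =
          (f.app (V ⊓ O)).hom c • res L (f.preimage_mono (inf_le_left : V ⊓ O ≤ V)) (θ.app V s) := by
        refine (app_res θ (inf_le_right : V ⊓ O ≤ O) t).trans ?_
        rw [← hc]
        refine (push_app_smul f θ (V ⊓ O) c _).trans ?_
        exact congrArg (fun z : Γ(L, f ⁻¹ᵁ (V ⊓ O)) => (f.app (V ⊓ O)).hom c • z)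
          (app_res θ (inf_le_left : V ⊓ O ≤ V) s).symm
      have h2 := congrArg (res L le') h1
      rw [res_res, res_smul, res_res] at h2
      exact h2
    have hgen' := TMul.IsGen.res hgen (inf_le_left : W ⊓ f ⁻¹ᵁ V ≤ W)
    rw [res_res] at hgen'
    rwa [key] at hgen'
  choose W hW hxW hgen using hloc
  refine RelTilde.isGen_of_cover _ W (fun x hx => Opens.mem_iSup.mpr ⟨⟨x, hx⟩, hxW _⟩)
    fun x V' hV' hV'W => ?_
  have := hgen x V' hV'W
  simpa [res_res] using this

section Local

variable {A C : Z.Modules} {D : X.Modules} (h : X ⟶ Z) {U : Z.Opens} (s : Γ(C, U))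
  (hU : ∀ W : Z.Opens, h ⁻¹ᵁ W ≤ h ⁻¹ᵁ (W ⊓ U))
  (ν : CohB1.tensorMod A C ⟶ (Scheme.Modules.pushforward h).obj D)

/-- `a ↦ ν (a ⊗ s)`, when `h` lands in the domain of `s`. -/
def twistBy : A ⟶ (Scheme.Modules.pushforward h).obj D :=
  ⟨PresheafOfModules.homMk
    { app := fun W => AddCommGrpCat.ofHom (X := Γ(A, W.unop)) (Y := Γ(D, h ⁻¹ᵁ W.unop))
        (AddMonoidHom.mk'
          (fun a => res D (hU W.unop) (ν.app (W.unop ⊓ U)
            (tm (res A inf_le_left a) (res C inf_le_right s))))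
          fun a b => by
            rw [map_add, TMul.tm_add]
            exact (congrArg (res D (hU W.unop)) (map_add (ν.app (W.unop ⊓ U)).hom _ _)).trans
              (map_add _ _ _))
      naturality := fun W W' f => by
        ext a
        change res D (hU W'.unop) (ν.app (W'.unop ⊓ U)
            (tm (res A inf_le_left (res A (leOfHom f.unop) a)) (res C inf_le_right s))) =
          res D (h.preimage_mono (leOfHom f.unop)) (res D (hU W.unop) (ν.app (W.unop ⊓ U)
            (tm (res A inf_le_left a) (res C inf_le_right s))))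
        have le : W'.unop ⊓ U ≤ W.unop ⊓ U := inf_le_inf_right U (leOfHom f.unop)
        have hres : tm (res A inf_le_left (res A (leOfHom f.unop) a)) (res C inf_le_right s) =
            res (CohB1.tensorMod A C) le (tm (res A inf_le_left a) (res C inf_le_right s)) := by
          rw [TMul.res_tm, res_res, res_res, res_res]
        rw [hres, ← app_res ν le]
        exact (res_res D (hU W'.unop) (h.preimage_mono le) _).trans
          (res_res D (h.preimage_mono (leOfHom f.unop)) (hU W.unop) _).symm }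
    fun W (c : Γ(Z, W.unop)) (a : Γ(A, W.unop)) => by
      change res D (hU W.unop) (ν.app (W.unop ⊓ U)
          (tm (res A inf_le_left (c • a)) (res C inf_le_right s))) =
        (h.app W.unop).hom c • res D (hU W.unop) (ν.app (W.unop ⊓ U)
            (tm (res A inf_le_left a) (res C inf_le_right s)))
      rw [res_smul, TMul.smul_tm, ν.app_smul]
      refine (res_smul D (hU W.unop) _ _).trans (congrArg (· • _) ?_)
      change resO X _ ((h.app (W.unop ⊓ U)).hom (resO Z inf_le_left c)) = _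
      rw [show (h.app (W.unop ⊓ U)).hom (resO Z inf_le_left c) =
        resO X (h.preimage_mono inf_le_left) ((h.app W.unop).hom c) from
          congr($(h.naturality (homOfLE (inf_le_left : W.unop ⊓ U ≤ W.unop)).op) c),
        Groth.Agent.QC.resO_resO]
      exact congr($(X.presheaf.map_id _) _)⟩

lemma twistBy_app (W : Z.Opens) (hW : W ≤ U) (a : Γ(A, W)) :
    (twistBy h s hU ν).app W a = ν.app W (tm a (res C hW s)) := by
  have le : W ≤ W ⊓ U := le_inf le_rfl hW
  have hres : tm a (res C hW s) =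
      res (CohB1.tensorMod A C) le (tm (res A inf_le_left a) (res C inf_le_right s)) := by
    rw [TMul.res_tm, res_res, res_res, res_self]
  rw [hres, ← app_res ν le]
  rfl

end Local

section Kappa

variable (p : P ⟶ Y) {E L : Y.Modules} {O1 : P.Modules} (φ : E ⟶ (Scheme.Modules.pushforward p).obj O1)

/-- The sections `φ m ⊗ ℓ`. -/
def kFun (U : Y.Opens) (m : Γ(E, U)) (l : Γ(L, U)) :
    Γ(CohB1.tensorMod O1 ((Scheme.Modules.pullback p).obj L), p ⁻¹ᵁ U) :=
  tm (show Γ(O1, p ⁻¹ᵁ U) from φ.app U m) (OmegaSh.pullSect p L U l)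

lemma kFun_add_left (U : Y.Opens) (m m' : Γ(E, U)) (l : Γ(L, U)) :
    kFun p φ U (m + m') l = kFun p φ U m l + kFun p φ U m' l := by
  unfold kFun
  rw [map_add]
  exact TMul.tm_add _ _ _

lemma kFun_add_right (U : Y.Opens) (m : Γ(E, U)) (l l' : Γ(L, U)) :
    kFun p φ U m (l + l') = kFun p φ U m l + kFun p φ U m l' := by
  unfold kFun
  rw [map_add]
  exact TMul.add_tm _ _ _

lemma kFun_smul_left (U : Y.Opens) (c : Γ(Y, U)) (m : Γ(E, U)) (l : Γ(L, U)) :
    kFun p φ U (c • m) l = (p.app U).hom c • kFun p φ U m l := by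
  unfold kFun
  rw [push_app_smul]
  exact TMul.smul_tm _ _ _

lemma kFun_smul_right (U : Y.Opens) (c : Γ(Y, U)) (m : Γ(E, U)) (l : Γ(L, U)) :
    kFun p φ U m (c • l) = (p.app U).hom c • kFun p φ U m l := by
  unfold kFun
  rw [ps_smul]
  exact TMul.tm_smul _ _ _

lemma res_kFun {V U : Y.Opens} (h : V ≤ U) (m : Γ(E, U)) (l : Γ(L, U)) :
    res (CohB1.tensorMod O1 ((Scheme.Modules.pullback p).obj L)) (p.preimage_mono h)
      (kFun p φ U m l) = kFun p φ V (res E h m) (res L h l) := by
  unfold kFun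
  rw [TMul.res_tm, res_ps]
  exact congrArg (fun t : Γ(O1, p ⁻¹ᵁ V) => tm t (OmegaSh.pullSect p L V (res L h l)))
    (app_res φ h m)

/-- `m ⊗ ℓ ↦ φ m ⊗ ℓ`. -/
def kappa : CohB1.tensorMod E L ⟶
    (Scheme.Modules.pushforward p).obj (CohB1.tensorMod O1 ((Scheme.Modules.pullback p).obj L)) :=
  TMul.lift (P := (Scheme.Modules.pushforward p).obj
      (CohB1.tensorMod O1 ((Scheme.Modules.pullback p).obj L)))
    (fun U => LinearMap.mk₂ Γ(Y, U) (fun m l => kFun p φ U m l)
      (kFun_add_left p φ U) (kFun_smul_left p φ U) (kFun_add_right p φ U) (kFun_smul_right p φ U))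
    fun h m l => res_kFun p φ h m l

lemma kappa_tm (U : Y.Opens) (m : Γ(E, U)) (l : Γ(L, U)) :
    (kappa p φ).app U (tm m l) = kFun p φ U m l :=
  TMul.lift_tm _ _ m l

end Kappa

end Groth.Agent.PBunTwist
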