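import Groth.Agent.PBunTwist.Comp
import Groth.Agent.RelTilde.Tensor
import Groth.Agent.RelTilde.Exists
import Groth.Agent.SymAlg.VAmpleData
import Groth.Agent.TMul.Pullback
import Groth.Agent.TMul.GlobGen

/-!
`P(E ⊗ L) ≅ P(E)` over the base, with the twisting sheaves.
-/

set_option autoImplicit false
set_option backward.isDefEq.respectTransparency false
set_option linter.style.haveILetI false
set_option linter.unusedSectionVars false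

universe u

open CategoryTheory CategoryTheory.Limits AlgebraicGeometry TopologicalSpace Opposite
open scoped HomogeneousIdeal

noncomputable section

namespace Groth.Agent.PBunTwist

open Groth.Agent
open TMul (IsGen tm)

/-- The morphism `P(E) ⟶ P(E ⊗ L)` is an isomorphism. -/
theorem Pair.exists_iso {Y P Q : Scheme.{u}} (D : Pair Y P Q) :
    ∃ e : P ≅ Q, e.hom ≫ D.q = D.p ∧
      Nonempty ((Scheme.Modules.pullback e.hom).obj D.OQ ≅ D.M) := by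
  obtain ⟨r, θ, hr, hiso⟩ := D.exists_isTw
  suffices IsIso r from ⟨asIso r, hr.1, ⟨@asIso _ _ _ _ _ hiso⟩⟩
  choose U hU l hxU _ hl using fun y : Y => SymAlg.exists_triv D.hL (O := ⊤) (x := y) trivial
  refine (IsZariskiLocalAtTarget.iff_of_iSup_eq_top (P := MorphismProperty.isomorphisms Scheme.{u})
    (fun y => D.q ⁻¹ᵁ U y) ?_).mpr fun y => ?_
  · exact top_le_iff.mp fun x _ => Opens.mem_iSup.mpr ⟨D.q.base x, hxU _⟩
  let i := (D.q ⁻¹ᵁ U y).ι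
  let j₀ := (r ⁻¹ᵁ (D.q ⁻¹ᵁ U y)).ι
  have hi : ⊤ ≤ (i ≫ D.q) ⁻¹ᵁ U y := fun x _ => x.2
  have hj₀ : ⊤ ≤ (j₀ ≫ D.p) ⁻¹ᵁ U y := fun x _ => by
    rw [← hr.1]
    exact x.2
  obtain ⟨r', θ', hr'⟩ := D.exists_isBack (l y) i hi (hl y)
  have hk₀ : (r ∣_ (D.q ⁻¹ᵁ U y)) ≫ i = j₀ ≫ r := morphismRestrict_ι r _
  have h1 := D.back_comp hr (hl y) hi hr'
  have h2 := D.comp_back hr (hl y) hi hr' hj₀ hk₀
  have hrange : Set.range r' ⊆ Set.range j₀ := by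
    rintro _ ⟨x, rfl⟩
    rw [Scheme.Opens.range_ι]
    change r.base (r'.base x) ∈ D.q ⁻¹ᵁ U y
    rw [← Scheme.Hom.comp_apply, h1]
    exact x.2
  refine ⟨⟨IsOpenImmersion.lift j₀ r' hrange, ?_, ?_⟩⟩
  · rw [← cancel_mono j₀, Category.assoc, IsOpenImmersion.lift_fac, h2, Category.id_comp]
  · rw [← cancel_mono i, Category.assoc, hk₀, IsOpenImmersion.lift_fac_assoc, h1, Category.id_comp]

/-- `O(n)` is the `n`-th power of `O(1)`. -/
theorem nonempty_twist_iso_pow {Y P : Scheme.{u}} {𝒮 : RelProj.QCGrAlg Y} {p : P ⟶ Y}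
    {ch : ∀ (U : Y.Opens) (hU : IsAffineOpen U), ((p ⁻¹ᵁ U : P.Opens) : Scheme.{u}) ≅ Proj (𝒮.deg U hU)}
    (hP : RelProj.IsRelProj 𝒮 p ch) (hgen : 𝒮.IsGenDegOne) {O1 : P.Modules}
    {lam1 : ∀ (U : Y.Opens) (hU : IsAffineOpen U), O1 ⟶ (RelTilde.Datum.self 𝒮).E p ch 1 U hU}
    (hO1 : (RelTilde.Datum.self 𝒮).IsTilde p ch 1 O1 lam1) :
    ∀ (n : ℕ) (On : P.Modules)
      (lamn : ∀ (U : Y.Opens) (hU : IsAffineOpen U), On ⟶ (RelTilde.Datum.self 𝒮).E p ch (n : ℤ) U hU),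
      (RelTilde.Datum.self 𝒮).IsTilde p ch (n : ℤ) On lamn → Nonempty (On ≅ CohB1.tensorPow O1 n)
  | 0, _, _, h => RelTilde.nonempty_twistZero_iso hP h
  | n + 1, On, lamn, h => by
    obtain ⟨F, lamF, hF⟩ := RelTilde.Datum.exists_isTilde (D := RelTilde.Datum.self 𝒮) (q := p)
      (ch := ch) hP (n := (n : ℤ))
    obtain ⟨e⟩ := nonempty_twist_iso_pow hP hgen hO1 n F lamF hF
    obtain ⟨m⟩ := RelTilde.nonempty_tensor_iso (D := RelTilde.Datum.self 𝒮) hP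
      (show (n : ℤ) + 1 = ((n + 1 : ℕ) : ℤ) by push_cast; rfl) hF hO1 h hgen
    exact ⟨m.symm ≪≫ PicGrp.tensorModIso e (Iso.refl _)⟩

set_option maxHeartbeats 800000 in
/-- The projective bundles of `E` and `E ⊗ L` agree, with twisted `O(n)`. -/
theorem exists_bundle_iso {Y P Q : Scheme.{u}} {E : Y.Modules} (hE : Coh.IsQCoh E)
    {L : Y.Modules} (hL : PicF.IsInvertible L)
    {𝒮 : RelProj.QCGrAlg Y} {j : E ⟶ 𝒮.toModule} (hj : RelProj.IsGrSymAlg E 𝒮 j)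
    {𝒯 : RelProj.QCGrAlg Y} {k : CohB1.tensorMod E L ⟶ 𝒯.toModule}
    (hk : RelProj.IsGrSymAlg (CohB1.tensorMod E L) 𝒯 k) {p : P ⟶ Y}
    {ch : ∀ (U : Y.Opens) (hU : IsAffineOpen U), ((p ⁻¹ᵁ U : P.Opens) : Scheme.{u}) ≅ Proj (𝒮.deg U hU)}
    (hP : RelProj.IsRelProj 𝒮 p ch) {q : Q ⟶ Y}
    {chQ : ∀ (U : Y.Opens) (hU : IsAffineOpen U), ((q ⁻¹ᵁ U : Q.Opens) : Scheme.{u}) ≅ Proj (𝒯.deg U hU)}
    (hQ : RelProj.IsRelProj 𝒯 q chQ) :
    ∃ i : P ≅ Q, i.hom ≫ q = p ∧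
      ∀ (n : ℕ) (OP : P.Modules)
        (lamP : ∀ (U : Y.Opens) (hU : IsAffineOpen U), OP ⟶ (RelTilde.Datum.self 𝒮).E p ch (n : ℤ) U hU)
        (OQ : Q.Modules)
        (lamQ : ∀ (U : Y.Opens) (hU : IsAffineOpen U), OQ ⟶ (RelTilde.Datum.self 𝒯).E q chQ (n : ℤ) U hU),
        (RelTilde.Datum.self 𝒮).IsTilde p ch (n : ℤ) OP lamP →
        (RelTilde.Datum.self 𝒯).IsTilde q chQ (n : ℤ) OQ lamQ →
        Nonempty ((Scheme.Modules.pullback i.hom).obj OQ ≅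
          CohB1.tensorMod OP ((Scheme.Modules.pullback p).obj (CohB1.tensorPow L n))) := by
  haveI : E.IsQuasicoherent := hE
  have hN : Coh.IsQCoh (CohB1.tensorMod E L) := TMul.isQCoh_tensor hL
  haveI : (CohB1.tensorMod E L).IsQuasicoherent := hN
  have hgS := SymAlg.isGenDegOne_sym hj
  have hgT := SymAlg.isGenDegOne_sym hk
  obtain ⟨OP1, lP, hOP⟩ := RelTilde.Datum.exists_isTilde (D := RelTilde.Datum.self 𝒮) (q := p)
    (ch := ch) hP (n := 1)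
  obtain ⟨OQ1, lQ, hOQ⟩ := RelTilde.Datum.exists_isTilde (D := RelTilde.Datum.self 𝒯) (q := q)
    (ch := chQ) hQ (n := 1)
  obtain ⟨φ, hφ⟩ := SymAlg.exists_isFund hj hP hOP
  obtain ⟨ψ, hψ⟩ := SymAlg.exists_isFund hk hQ hOQ
  let D : Pair Y P Q :=
    { E := E, L := L, hE := hE, hL := hL, 𝒮 := 𝒮, j := j, hj := hj, p := p, chP := ch, hP := hP
      OP := OP1, lamP := lP, hOP := hOP, φ := φ, hφ := hφ
      hOPi := RelTilde.isInvertible_of_isGenDegOne hOP hgS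
      hN := hN, 𝒯 := 𝒯, k := k, hk := hk, q := q, chQ := chQ, hQ := hQ
      OQ := OQ1, lamQ := lQ, hOQ := hOQ, ψ := ψ, hψ := hψ
      hOQi := RelTilde.isInvertible_of_isGenDegOne hOQ hgT }
  obtain ⟨i, hi, ⟨τ⟩⟩ := D.exists_iso
  refine ⟨i, hi, fun n OP lamP OQ lamQ hPn hQn => ?_⟩
  obtain ⟨a⟩ := nonempty_twist_iso_pow hP hgS hOP n OP lamP hPn
  obtain ⟨b⟩ := nonempty_twist_iso_pow hQ hgT hOQ n OQ lamQ hQn
  obtain ⟨c⟩ := TMul.nonempty_pullPowIso i.hom OQ1 n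
  obtain ⟨d⟩ := TMul.nonempty_powCongr τ n
  obtain ⟨e⟩ := TMul.nonempty_powTensorIso (L := OP1) (L' := (Scheme.Modules.pullback p).obj L) n
  obtain ⟨f⟩ := TMul.nonempty_pullPowIso p L n
  exact ⟨(Scheme.Modules.pullback i.hom).mapIso b ≪≫ c.symm ≪≫ d ≪≫ e ≪≫
    PicGrp.tensorModIso a.symm f⟩

end Groth.Agent.PBunTwist
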